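import Groth.Prelude.Def_RelSpec2
import Groth.Agent.DerCompLib.RestrAdj
import Groth.Agent.SerreDual.QCohCat
import Groth.Agent.RelVALib.DirImgFull

/-!
# Direct image by an affine morphism commutes with colimits of quasi-coherent modules
-/

set_option autoImplicit false
set_option backward.isDefEq.respectTransparency false
set_option linter.style.haveILetI false
set_option maxHeartbeats 800000

universe u

open AlgebraicGeometry CategoryTheory CategoryTheory.Limits TopologicalSpace Opposite

namespace Groth.Agent.DirImgLib

variable {X S : Scheme.{u}} {J : Type u} [SmallCategory J]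

/-- Sections over an open. -/
noncomputable abbrev sec (U : X.Opens) : X.Modules ⥤ Ab.{u} :=
  Scheme.Modules.toPresheaf X ⋙ (evaluation _ _).obj (op U)

theorem reflects_toSheaf {C : Type u} [SmallCategory C] {K : GrothendieckTopology C} {O : Sheaf K CommRingCat.{u}} :
    (SheafOfModules.toSheaf.{u} (ModSite.ringSh O)).ReflectsIsomorphisms := inferInstance

theorem preservesColimit_moduleSpecΓ {R : CommRingCat.{u}} (F : J ⥤ (Spec R).Modules)
    (hF : ∀ j, (F.obj j).IsQuasicoherent) : PreservesColimit F (moduleSpecΓFunctor (R := R)) := by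
  have : ∀ j, IsIso ((tilde.adjunction (R := R)).counit.app (F.obj j)) := fun j =>
    (isQuasicoherent_iff_isIso_fromTildeΓ _).1 (hF j)
  let G := F ⋙ moduleSpecΓFunctor (R := R)
  let e : G ⋙ tilde.functor R ≅ F :=
    NatIso.ofComponents (fun j => asIso ((tilde.adjunction (R := R)).counit.app (F.obj j)))
      (fun f => (tilde.adjunction (R := R)).counit.naturality (F.map f))
  haveI : (tilde.functor R).IsLeftAdjoint := (tilde.adjunction (R := R)).isLeftAdjoint
  haveI : PreservesColimitsOfShape J (tilde.functor R ⋙ moduleSpecΓFunctor (R := R)) :=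
    preservesColimitsOfShape_of_natIso (asIso (tilde.adjunction (R := R)).unit)
  haveI : PreservesColimit (G ⋙ tilde.functor R) (moduleSpecΓFunctor (R := R)) :=
    preservesColimit_of_preserves_colimit_cocone
      (isColimitOfPreserves (tilde.functor R) (colimit.isColimit G))
      (isColimitOfPreserves (tilde.functor R ⋙ moduleSpecΓFunctor (R := R)) (colimit.isColimit G))
  exact preservesColimit_of_iso_diagram _ e

/-- Sections over an affine open commute with colimits of quasi-coherent modules. -/
theorem preservesColimit_sec (D : J ⥤ X.Modules) (hD : ∀ j, Coh.IsQCoh (D.obj j)) {W : X.Opens}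
    (hW : IsAffineOpen W) : PreservesColimit D (sec W) := by
  let R := Scheme.Modules.restrictFunctor hW.fromSpec
  haveI : PreservesColimitsOfSize.{u, u} R :=
    (Scheme.Modules.restrictAdjunction hW.fromSpec).leftAdjoint_preservesColimits
  haveI : PreservesColimit (D ⋙ R) (moduleSpecΓFunctor (R := Γ(X, W))) :=
    preservesColimit_moduleSpecΓ _ fun j => by
      haveI := hD j
      exact inferInstanceAs ((R.obj (D.obj j)).IsQuasicoherent)
  haveI : PreservesColimitsOfShape J (forget₂ (ModuleCat.{u} Γ(X, W)) Ab.{u}) := inferInstance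
  have hWtop : hW.fromSpec ''ᵁ ⊤ = W := by
    rw [Scheme.Hom.image_top_eq_opensRange, hW.opensRange_fromSpec]
  let e : R ⋙ moduleSpecΓFunctor (R := Γ(X, W)) ⋙ forget₂ _ Ab.{u} ≅ sec W :=
    NatIso.ofComponents (fun M => ((Scheme.Modules.toPresheaf X).obj M).mapIso (eqToIso hWtop.symm).op)
      (fun {M N} φ => (((Scheme.Modules.toPresheaf X).map φ).naturality (eqToHom hWtop.symm).op).symm)
  exact preservesColimit_of_natIso D e

theorem preservesColimit_pushforward (f : X ⟶ S) [IsAffineHom f] (D : J ⥤ X.Modules)
    (hD : ∀ j, Coh.IsQCoh (D.obj j)) : PreservesColimit D (Scheme.Modules.pushforward f) := by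
  let G := Scheme.Modules.pushforward f
  refine preservesColimit_of_preserves_colimit_cocone (colimit.isColimit D) ?_
  let φ : colimit (D ⋙ G) ⟶ G.obj (colimit D) := colimit.desc (D ⋙ G) (G.mapCocone (colimit.cocone D))
  suffices IsIso φ from
    ((colimit.isColimit (D ⋙ G)).ofIsoColimit (Cocone.ext (asIso φ) fun j => by simp [φ, G]))
  have key : ∀ U : S.affineOpens, IsIso ((sec U.1).map φ) := fun U => by
    haveI := preservesColimit_sec (D ⋙ G) (fun j => have := hD j; Groth.Agent.Coherent.isQCoh_push f (D.obj j)) U.2
    haveI := preservesColimit_sec D hD (U.2.preimage f)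
    let h1 := isColimitOfPreserves (sec U.1) (colimit.isColimit (D ⋙ G))
    let h2 : IsColimit ((sec U.1).mapCocone (G.mapCocone (colimit.cocone D))) :=
      IsColimit.ofIsoColimit (isColimitOfPreserves (sec (f ⁻¹ᵁ U.1)) (colimit.isColimit D))
        (Cocone.ext (Iso.refl _) fun _ => rfl)
    have : (sec U.1).map φ = (h1.coconePointUniqueUpToIso h2).hom :=
      h1.hom_ext fun j => by
        rw [h1.comp_coconePointUniqueUpToIso_hom]
        show (sec U.1).map _ ≫ (sec U.1).map φ = (sec U.1).map _
        rw [← Functor.map_comp]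
        exact congrArg _ (colimit.ι_desc _ j)
    rw [this]
    infer_instance
  let ψ := (SheafOfModules.toSheaf.{u} S.ringCatSheaf).map φ
  haveI : IsIso ψ := TopCat.Sheaf.isIso_iff_isIso_basis (B := fun U : S.affineOpens => (U : S.Opens))
    (by simpa [Subtype.range_val] using S.isBasis_affineOpens) fun U => key U
  haveI := reflects_toSheaf (O := S.sheaf)
  exact @isIso_of_reflects_iso _ _ _ _ _ _ φ (SheafOfModules.toSheaf.{u} S.ringCatSheaf) ‹_› (reflects_toSheaf (O := S.sheaf))

theorem preservesColimit_dirImg (f : X ⟶ S) [IsAffineHom f] (D : J ⥤ X.Modules)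
    (hD : ∀ j, Coh.IsQCoh (D.obj j)) : PreservesColimit D (AMod.dirImg f) := by
  let B := RelSpec.QCAlg.directImage f
  let TB := SheafOfModules.toSheaf.{u} (AMod.ringSheaf B)
  let TS := SheafOfModules.toSheaf.{u} S.ringCatSheaf
  haveI : PreservesColimitsOfShape J TB :=
    DerCompLib.preservesColimitsOfShape_toSheaf (O := (⟨B.presheaf, B.isSheaf⟩ : Sheaf _ CommRingCat.{u})) J
  haveI : PreservesColimitsOfShape J TS := DerCompLib.preservesColimitsOfShape_toSheaf (O := S.sheaf) J
  haveI : ReflectsColimitsOfShape J TB := reflectsColimitsOfShape_of_reflectsIsomorphisms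
  haveI := preservesColimit_pushforward f D hD
  refine preservesColimit_of_preserves_colimit_cocone (colimit.isColimit D) (isColimitOfReflects TB ?_)
  exact IsColimit.ofIsoColimit
    (isColimitOfPreserves (Scheme.Modules.pushforward f ⋙ TS) (colimit.isColimit D))
    (Cocone.ext (Iso.refl _) fun _ => rfl)

end Groth.Agent.DirImgLib
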